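import Groth.Agent.L05.OmegaRank.Main
import Groth.Agent.L05.SmoothCrit.LocalModelScheme
import Groth.Agent.L07.GeomRk.Ring
import Groth.Agent.L23.SpaceFibreDim
import Groth.Agent.L21.Smooth.Scheme

/-!
# Regularity and the rank of differentials for irreducible varieties
-/

set_option autoImplicit false
set_option linter.style.haveILetI false
set_option backward.isDefEq.respectTransparency.types false
set_option backward.isDefEq.respectTransparency false

universe u

open CategoryTheory CategoryTheory.Limits AlgebraicGeometry TopologicalSpace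

namespace Groth.L05.OmegaRank

theorem localDim_eq_dim {k : Type u} [Field k] {X : Scheme.{u}} (f : X ⟶ Spec (CommRingCat.of k))
    [LocallyOfFiniteType f] [IrreducibleSpace X] (x : X) :
    FlatMor.localDim X x = topologicalKrullDim X := by
  letI : X.Over (Spec (CommRingCat.of k)) := ⟨f⟩
  haveI : LocallyOfFiniteType (X ↘ Spec (CommRingCat.of k)) := ‹LocallyOfFiniteType f›
  obtain ⟨m, hm, -, hU⟩ := Groth.L22.SchemeDim.exists_dim_eq_trdeg k X
  rw [hm]
  refine le_antisymm ?_ (le_iInf fun U => (hU U.1 ⟨x, U.2⟩).ge)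
  exact (iInf_le _ (⟨⊤, trivial⟩ : {U : Opens X // x ∈ U})).trans_eq (hU ⊤ ⟨x, trivial⟩)

theorem mem_smoothLocus_of_regular_stalk {k : Type u} [Field k] [IsAlgClosed k] {X : Scheme.{u}}
    (f : X ⟶ Spec (CommRingCat.of k)) [LocallyOfFinitePresentation f] (x : X)
    (h : IsRegularLocalRing (X.presheaf.stalk x)) : x ∈ f.smoothLocus := by
  obtain ⟨W, hW, hxW, hA, hft, hφ⟩ := Groth.L07.GeomRk.exists_chart f x
  letI := hA
  haveI := hft
  rw [Groth.L07.GeomRk.mem_smoothLocus_iff f hW hφ x hxW]
  haveI := h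
  exact Groth.L07.GeomRk.isSmoothAt_of_regular _
    (IsRegularLocalRing.of_ringEquiv (Groth.L07.GeomRk.stalkEquiv hW x hxW).symm)

theorem finLocFreeOfRank_iff_regular {k : Type u} [Field k] [IsAlgClosed k] {X : Scheme.{u}}
    (f : X ⟶ Spec (CommRingCat.of k)) [LocallyOfFiniteType f] [IrreducibleSpace X] {n : ℕ}
    (hn : topologicalKrullDim X = (n : WithBot ℕ∞)) {Ω : X.Modules} {d : OmegaSh.Der f Ω}
    (hd : OmegaSh.IsUniversal d) :
    FlatMod.IsFinLocFreeOfRank n Ω ↔ ∀ x : X, IsRegularLocalRing (X.presheaf.stalk x) := by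
  haveI : LocallyOfFinitePresentation f := Groth.L05.SmoothCrit.lfp_of_noetherian f
  constructor
  · intro h x
    obtain ⟨U, hxU, ⟨i⟩⟩ := h x
    have hx : x ∈ f.smoothLocus :=
      mem_smoothLocus_of_free_field f hd x hxU i (by rw [localDim_eq_dim f x, hn])
    haveI := Groth.L20.SmoothAt.smooth_ι_smoothLocus f
    let u : (f.smoothLocus : Scheme.{u}) := ⟨x, hx⟩
    haveI := Groth.L21.Smooth.regular_stalk (f.smoothLocus.ι ≫ f) u
    exact IsRegularLocalRing.of_ringEquiv (asIso (f.smoothLocus.ι.stalkMap u)).commRingCatIsoToRingEquiv.symm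
  · intro h x
    obtain ⟨U, m, hxU, hi, hm⟩ := exists_free_of_mem_smoothLocus hd x (mem_smoothLocus_of_regular_stalk f x (h x))
    rw [Groth.L23.SpDim.fibreDimAt_eq_localDim_of_subsingleton, localDim_eq_dim f x, hn] at hm
    obtain rfl : n = m := by exact_mod_cast hm
    exact ⟨U, hxU, hi⟩

end Groth.L05.OmegaRank
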