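import Groth.Agent.L19.OmegaSh.Affine
import Groth.Agent.L18.LocFreeTilde
import Groth.Agent.L29.LocFree
import Mathlib.LinearAlgebra.Dimension.Free
import Mathlib.RingTheory.Kaehler.Basic

/-!
# Free sheaves of differentials and free modules of differentials on affine charts
-/

set_option autoImplicit false
set_option linter.style.haveILetI false
set_option backward.isDefEq.respectTransparency.types false
set_option backward.isDefEq.respectTransparency false

universe u

open CategoryTheory CategoryTheory.Limits AlgebraicGeometry TopologicalSpace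

noncomputable section

namespace Groth.L05.OmegaRank

variable {X : Scheme.{u}}

/-- A trivialisation on the source of an open immersion gives one on its range. -/
theorem free_opensRange {W : Scheme.{u}} (M : X.Modules) (j : W ⟶ X) [IsOpenImmersion j] {n : ℕ}
    (i : M.restrict j ≅ FlatMod.freeMod W n) :
    Nonempty (M.restrict j.opensRange.ι ≅ FlatMod.freeMod (j.opensRange : Scheme.{u}) n) :=
  ⟨(Scheme.Modules.restrictFunctorIsoPullback j.opensRange.ι).app M ≪≫
    (Scheme.Modules.pullbackCongr (Scheme.Hom.isoOpensRange_inv_comp j).symm).app M ≪≫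
    ((Scheme.Modules.pullbackComp j.isoOpensRange.inv j).app M).symm ≪≫
    (Scheme.Modules.pullback j.isoOpensRange.inv).mapIso
      (((Scheme.Modules.restrictFunctorIsoPullback j).app M).symm ≪≫ i) ≪≫
    Groth.L29.LocFree.pullbackFreeIso _ n⟩

/-- A trivialisation on an open gives one on the source of an open immersion into it. -/
theorem free_of_range_le {W : Scheme.{u}} (M : X.Modules) (j : W ⟶ X) [IsOpenImmersion j] {U : X.Opens}
    (hj : ∀ w, j w ∈ U) {n : ℕ} (i : M.restrict U.ι ≅ FlatMod.freeMod (U : Scheme.{u}) n) :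
    Nonempty (M.restrict j ≅ FlatMod.freeMod W n) :=
  let l := IsOpenImmersion.lift U.ι j (by rw [Scheme.Opens.range_ι]; rintro _ ⟨w, rfl⟩; exact hj w)
  ⟨(Scheme.Modules.restrictFunctorIsoPullback j).app M ≪≫
    (Scheme.Modules.pullbackCongr (IsOpenImmersion.lift_fac U.ι j _).symm).app M ≪≫
    ((Scheme.Modules.pullbackComp l U.ι).app M).symm ≪≫
    (Scheme.Modules.pullback l).mapIso
      (((Scheme.Modules.restrictFunctorIsoPullback U.ι).app M).symm ≪≫ i) ≪≫
    Groth.L29.LocFree.pullbackFreeIso _ n⟩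

variable {R : CommRingCat.{u}}

/-- `tilde` of a free module of rank `n` is free of rank `n`. -/
def tildeFreeIso (n : ℕ) :
    tilde (ModuleCat.of R (ULift.{u} (Fin n) →₀ R)) ≅ FlatMod.freeMod (Spec R) n :=
  tildeFinsupp _ ≪≫ Groth.L18.LFP.uliftIso _ n

theorem tilde_free_iff (M : ModuleCat.{u} R) (n : ℕ) :
    Nonempty (tilde M ≅ FlatMod.freeMod (Spec R) n) ↔ Nonempty (Module.Basis (Fin n) R M) := by
  constructor
  · rintro ⟨i⟩
    have e : M ≅ ModuleCat.of R (ULift.{u} (Fin n) →₀ R) :=
      (Functor.FullyFaithful.ofFullyFaithful (tilde.functor R)).preimageIso (i ≪≫ (tildeFreeIso n).symm)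
    exact ⟨(Module.Basis.ofRepr e.toLinearEquiv).reindex Equiv.ulift⟩
  · rintro ⟨b⟩
    exact ⟨(tilde.functor R).mapIso
      (b.reindex Equiv.ulift.symm).repr.toModuleIso ≪≫ tildeFreeIso n⟩

variable {Y : Scheme.{u}} {f : X ⟶ Y} {Ω : X.Modules} {d : OmegaSh.Der f Ω}

/-- A basis of the differentials of a chart trivialises the sheaf of differentials on the chart. -/
theorem free_of_basis (hd : OmegaSh.IsUniversal d) {A B : Type u} [CommRing A] [CommRing B] [Algebra A B]
    (j : Spec (CommRingCat.of B) ⟶ X) [IsOpenImmersion j]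
    (k : Spec (CommRingCat.of A) ⟶ Y) [IsOpenImmersion k]
    (hjk : Spec.map (CommRingCat.ofHom (algebraMap A B)) ≫ k = j ≫ f)
    {n : ℕ} (b : Module.Basis (Fin n) B Ω[B⁄A]) :
    Nonempty (Ω.restrict j.opensRange.ι ≅ FlatMod.freeMod (j.opensRange : Scheme.{u}) n) := by
  obtain ⟨e, -⟩ := Groth.L19.OmegaSh.exists_chart hd j k hjk
  obtain ⟨i⟩ := (tilde_free_iff (R := CommRingCat.of B) (ModuleCat.of B Ω[B⁄A]) n).mpr ⟨b⟩
  exact free_opensRange Ω j (e ≪≫ i)

/-- A trivialisation of the sheaf of differentials gives bases of the differentials of the charts inside. -/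
theorem basis_of_free (hd : OmegaSh.IsUniversal d) {A B : Type u} [CommRing A] [CommRing B] [Algebra A B]
    (j : Spec (CommRingCat.of B) ⟶ X) [IsOpenImmersion j]
    (k : Spec (CommRingCat.of A) ⟶ Y) [IsOpenImmersion k]
    (hjk : Spec.map (CommRingCat.ofHom (algebraMap A B)) ≫ k = j ≫ f)
    {U : X.Opens} (hj : ∀ w, j w ∈ U) {n : ℕ}
    (i : Ω.restrict U.ι ≅ FlatMod.freeMod (U : Scheme.{u}) n) :
    Nonempty (Module.Basis (Fin n) B Ω[B⁄A]) := by
  obtain ⟨e, -⟩ := Groth.L19.OmegaSh.exists_chart hd j k hjk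
  obtain ⟨i'⟩ := free_of_range_le Ω j hj i
  exact (tilde_free_iff (R := CommRingCat.of B) (ModuleCat.of B Ω[B⁄A]) n).mp ⟨e.symm ≪≫ i'⟩

end Groth.L05.OmegaRank
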