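import Groth.Agent.L19.OmegaSh.Unramified
import Groth.Agent.L20.Thickening
import Groth.Agent.L18.LocFreeTilde
import Groth.Agent.L29.DCoh.TensorPerfect
import Groth.Prelude.Def_MoreMor
import Mathlib.RingTheory.Smooth.Basic

/-!
# The sheaf of differentials of a formally smooth morphism locally of finite type
-/

set_option autoImplicit false
set_option linter.style.haveILetI false
set_option backward.isDefEq.respectTransparency.types false
set_option backward.isDefEq.respectTransparency false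

universe u

open CategoryTheory CategoryTheory.Limits AlgebraicGeometry TopologicalSpace

namespace Groth.L05.OmegaRank

variable {X Y : Scheme.{u}} {f : X ⟶ Y}

theorem formallySmooth_appLE (hf : MoreMor.IsFormallySmoothHom f) {U : X.Opens} (hU : IsAffineOpen U)
    {V : Y.Opens} (hV : IsAffineOpen V) (e : U ≤ f ⁻¹ᵁ V) :
    letI : Algebra Γ(Y, V) Γ(X, U) := (f.appLE V U e).hom.toAlgebra
    Algebra.FormallySmooth Γ(Y, V) Γ(X, U) := by
  letI : Algebra Γ(Y, V) Γ(X, U) := (f.appLE V U e).hom.toAlgebra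
  refine Algebra.FormallySmooth.of_comp_surjective fun R _ _ I hI g => ?_
  let a : Spec (CommRingCat.of (R ⧸ I)) ⟶ Spec Γ(X, U) := Spec.map (CommRingCat.ofHom g.toRingHom)
  let b : Spec (CommRingCat.of R) ⟶ Y :=
    Spec.map (CommRingCat.ofHom (algebraMap Γ(Y, V) R)) ≫ hV.fromSpec
  have w : Spec.map (CommRingCat.ofHom (Ideal.Quotient.mk I)) ≫ b = (a ≫ hU.fromSpec) ≫ f := by
    rw [Category.assoc, ← IsAffineOpen.SpecMap_appLE_fromSpec f hV hU e]
    simp only [a, b, ← Spec.map_comp_assoc]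
    congr 2
    ext x
    exact (g.commutes x).symm
  obtain ⟨l, hl1, hl2⟩ := hf R I hI (a ≫ hU.fromSpec) b w
  have hr : Set.range l ⊆ Set.range hU.fromSpec := by
    rw [hU.range_fromSpec, ← Scheme.Opens.range_ι U]
    refine Groth.L20.range_subset_of_comp_eq I hI U (a ≫ hU.isoSpec.inv) l ?_
    rw [hl1, Category.assoc]
    rfl
  let m := IsOpenImmersion.lift hU.fromSpec l hr
  have hm : m ≫ hU.fromSpec = l := IsOpenImmersion.lift_fac _ _ _
  have hfac : m ≫ Spec.map (f.appLE V U e) = Spec.map (CommRingCat.ofHom (algebraMap Γ(Y, V) R)) := by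
    rw [← cancel_mono hV.fromSpec, Category.assoc, IsAffineOpen.SpecMap_appLE_fromSpec f hV hU e,
      ← Category.assoc, hm, hl2]
  obtain ⟨ψ, hψ⟩ := Spec.map_surjective m
  have h1 : f.appLE V U e ≫ ψ = CommRingCat.ofHom (algebraMap Γ(Y, V) R) := by
    apply Spec.map_injective
    rw [Spec.map_comp, hψ, hfac]
  have h2 : ψ ≫ CommRingCat.ofHom (Ideal.Quotient.mk I) = CommRingCat.ofHom g.toRingHom := by
    apply Spec.map_injective
    rw [Spec.map_comp, hψ, ← cancel_mono hU.fromSpec, Category.assoc, hm, hl1]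
  exact ⟨{ toRingHom := ψ.hom, commutes' := fun x => congr($(h1).hom x) },
    AlgHom.ext fun x => congr($(h2).hom x)⟩

theorem isFinLocFree_of_formallySmooth (hf : MoreMor.IsFormallySmoothHom f) [LocallyOfFiniteType f]
    {Ω : X.Modules} {d : OmegaSh.Der f Ω} (hd : OmegaSh.IsUniversal d) : FlatMod.IsFinLocFree Ω := by
  refine Groth.L29.DC.isFinLocFree_of_local fun x => ?_
  obtain ⟨U, ⟨V, e⟩, hxU, -⟩ := Groth.L19.OmegaSh.exists_good (f := f) x ⊤ trivial
  letI : Algebra Γ(Y, V.1) Γ(X, U.1) := (f.appLE V.1 U.1 e).hom.toAlgebra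
  haveI := formallySmooth_appLE hf U.2 V.2 e
  haveI : Algebra.FiniteType Γ(Y, V.1) Γ(X, U.1) := f.finiteType_appLE V.2 U.2 e
  obtain ⟨i, -⟩ := Groth.L19.OmegaSh.exists_chart_affine hd U.2 V.2 e
  have h := Groth.L29.LocFree.of_iso i.symm
    (Groth.L18.LFP.isFinLocFree_tilde (R := CommRingCat.of Γ(X, U.1))
      (ModuleCat.of Γ(X, U.1) Ω[Γ(X, U.1)⁄Γ(Y, V.1)]))
  refine ⟨U.1, hxU, ?_⟩
  have h2 := Groth.L29.LocFree.pullback U.2.isoSpec.hom h
  exact Groth.L29.LocFree.of_iso
    ((Scheme.Modules.pullback U.2.isoSpec.hom).mapIso ((Scheme.Modules.restrictFunctorIsoPullback U.2.fromSpec).app Ω) ≪≫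
      (Scheme.Modules.pullbackComp U.2.isoSpec.hom U.2.fromSpec).app Ω ≪≫
      (Scheme.Modules.pullbackCongr U.2.isoSpec_hom_fromSpec).app Ω ≪≫
      ((Scheme.Modules.restrictFunctorIsoPullback U.1.ι).app Ω).symm) h2

end Groth.L05.OmegaRank
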