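import Groth.Agent.L05.OmegaRank.Free
import Groth.Agent.S2768
import Groth.Agent.S9386
import Groth.Agent.S9370
import Groth.Agent.S2156
import Groth.Agent.L19.OmegaSh.Universal
import Groth.Agent.L07.GeomRk.Field
import Groth.Agent.L05.SmoothCrit.Rank
import Groth.Agent.L20.SmoothAt.Global
import Groth.Agent.L23.LocalDimEtale
import Groth.Agent.L05.Point.Crit
import Mathlib.RingTheory.Smooth.StandardSmoothCotangent

/-!
# Smoothness and the rank of the sheaf of differentials
-/

set_option autoImplicit false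
set_option linter.style.haveILetI false
set_option backward.isDefEq.respectTransparency.types false
set_option backward.isDefEq.respectTransparency false

universe u

open CategoryTheory CategoryTheory.Limits AlgebraicGeometry TopologicalSpace
open scoped TensorProduct

noncomputable section

namespace Groth.L05.OmegaRank

variable {X Y : Scheme.{u}} {f : X ⟶ Y} {Ω : X.Modules} {d : OmegaSh.Der f Ω}

/-- Near a point where a morphism is smooth the differentials are free of rank the fibre dimension. -/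
theorem exists_free_of_mem_smoothLocus (hd : OmegaSh.IsUniversal d) [LocallyOfFinitePresentation f]
    (x : X) (hx : x ∈ f.smoothLocus) :
    ∃ (U : X.Opens) (n : ℕ), x ∈ U ∧ Nonempty (Ω.restrict U.ι ≅ FlatMod.freeMod (U : Scheme.{u}) n) ∧
      FlatMor.fibreDimAt f x = (n : WithBot ℕ∞) := by
  haveI := Groth.L20.SmoothAt.smooth_ι_smoothLocus f
  obtain ⟨V, hV, U, hU, hxU, e, hsm⟩ := Smooth.exists_isStandardSmooth (f.smoothLocus.ι ≫ f) ⟨x, hx⟩
  let φ := (f.smoothLocus.ι ≫ f).appLE V U e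
  letI : Algebra Γ(Y, V) Γ((f.smoothLocus : Scheme.{u}), U) := φ.hom.toAlgebra
  haveI : Algebra.IsStandardSmooth Γ(Y, V) Γ((f.smoothLocus : Scheme.{u}), U) := hsm
  let j : Spec (CommRingCat.of Γ((f.smoothLocus : Scheme.{u}), U)) ⟶ X := hU.fromSpec ≫ f.smoothLocus.ι
  have hjk : Spec.map (CommRingCat.ofHom (algebraMap Γ(Y, V) Γ((f.smoothLocus : Scheme.{u}), U))) ≫ hV.fromSpec =
      j ≫ f := by
    rw [show CommRingCat.ofHom (algebraMap Γ(Y, V) Γ((f.smoothLocus : Scheme.{u}), U)) = φ from rfl,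
      IsAffineOpen.SpecMap_appLE_fromSpec _ hV hU e, Category.assoc]
  haveI : Nonempty U := ⟨⟨_, hxU⟩⟩
  haveI : Nontrivial Γ((f.smoothLocus : Scheme.{u}), U) := inferInstance
  haveI : Module.Free Γ((f.smoothLocus : Scheme.{u}), U) Ω[Γ((f.smoothLocus : Scheme.{u}), U)⁄Γ(Y, V)] :=
    inferInstance
  haveI : Module.Finite Γ((f.smoothLocus : Scheme.{u}), U) Ω[Γ((f.smoothLocus : Scheme.{u}), U)⁄Γ(Y, V)] :=
    inferInstance
  let n := Module.finrank Γ((f.smoothLocus : Scheme.{u}), U) Ω[Γ((f.smoothLocus : Scheme.{u}), U)⁄Γ(Y, V)]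
  haveI hn : Algebra.IsStandardSmoothOfRelativeDimension n Γ(Y, V) Γ((f.smoothLocus : Scheme.{u}), U) :=
    (Algebra.IsStandardSmoothOfRelativeDimension.iff_of_isStandardSmooth n).mpr (Module.finrank_eq_rank _ _).symm
  obtain ⟨i⟩ := free_of_basis hd j hV.fromSpec hjk
    (Module.finBasis Γ((f.smoothLocus : Scheme.{u}), U) Ω[Γ((f.smoothLocus : Scheme.{u}), U)⁄Γ(Y, V)])
  have hjx : j (hU.primeIdealOf ⟨⟨x, hx⟩, hxU⟩) = x := by
    show f.smoothLocus.ι (hU.fromSpec _) = x
    rw [hU.fromSpec_primeIdealOf]; rfl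
  refine ⟨j.opensRange, n, ⟨_, hjx⟩, ⟨i⟩, ?_⟩
  haveI : SmoothOfRelativeDimension n
      (Spec.map (CommRingCat.ofHom (algebraMap Γ(Y, V) Γ((f.smoothLocus : Scheme.{u}), U)))) := by
    rw [HasRingHomProperty.Spec_iff (P := @SmoothOfRelativeDimension n)]
    refine RingHom.locally_of (RingHom.isStandardSmoothOfRelativeDimension_respectsIso) _ ?_
    exact RingHom.isStandardSmoothOfRelativeDimension_algebraMap n |>.mpr hn
  refine ((congrArg (FlatMor.fibreDimAt f) hjx).symm.trans
    (Groth.L07.SyntDim.fibreDimAt_congr f _ j hV.fromSpec hjk.symm _)).trans ?_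
  exact Groth.L20.SmoothDim.main n _ _

/-- Over a field, free differentials of rank the local dimension force smoothness. -/
theorem mem_smoothLocus_of_free_field {k : Type u} [Field k] {X : Scheme.{u}}
    (f : X ⟶ Spec (CommRingCat.of k)) [LocallyOfFinitePresentation f]
    {Ω : X.Modules} {d : OmegaSh.Der f Ω} (hd : OmegaSh.IsUniversal d) (x : X)
    {U : X.Opens} (hxU : x ∈ U) {n : ℕ} (i : Ω.restrict U.ι ≅ FlatMod.freeMod (U : Scheme.{u}) n)
    (hdim : (n : WithBot ℕ∞) ≤ FlatMor.localDim X x) : x ∈ f.smoothLocus := by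
  obtain ⟨W, hW, hxW, hWU⟩ := exists_isAffineOpen_mem_and_subset (X := X) (x := x) (U := U) hxU
  obtain ⟨hA, hφ⟩ := Groth.L07.GeomRedField.exists_field_algebra f hW
  letI := hA
  haveI : Algebra.FiniteType k Γ(X, W) := by
    haveI : LocallyOfFiniteType (Spec.map (CommRingCat.ofHom (algebraMap k Γ(X, W)))) := hφ ▸ inferInstance
    exact RingHom.finiteType_algebraMap.mp ((HasRingHomProperty.Spec_iff (P := @LocallyOfFiniteType)).1 this)
  obtain ⟨b⟩ := basis_of_free hd hW.fromSpec (𝟙 (Spec (CommRingCat.of k)))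
    (by rw [Category.comp_id]; exact hφ.symm) (fun w => hWU (hW.range_fromSpec.subset ⟨w, rfl⟩)) i
  rw [Groth.L07.GeomRk.mem_smoothLocus_iff f hW hφ x hxW, Groth.L05.SmoothCrit.isSmoothAt_iff_rank_le]
  have h1 : Groth.L05.SmoothCrit.rank (k := k) (hW.primeIdealOf ⟨x, hxW⟩).asIdeal = n := by
    unfold Groth.L05.SmoothCrit.rank
    rw [Module.finrank_eq_card_basis (Algebra.TensorProduct.basis _ b), Fintype.card_fin]
  rw [h1]
  refine hdim.trans_eq ?_
  have h2 := Groth.L23.localDim_eq_of_etale hW.fromSpec (hW.primeIdealOf ⟨x, hxW⟩)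
  exact ((congrArg (FlatMor.localDim X) (hW.fromSpec_primeIdealOf ⟨x, hxW⟩)).symm.trans h2.symm)

/-- Where the differentials are free of rank at most the fibre dimension, the fibre is smooth. -/
theorem fiber_mem_smoothLocus_of_free (hd : OmegaSh.IsUniversal d) [LocallyOfFinitePresentation f] (x : X)
    {U : X.Opens} (hxU : x ∈ U) {n : ℕ} (i : Ω.restrict U.ι ≅ FlatMod.freeMod (U : Scheme.{u}) n)
    (hdim : (n : WithBot ℕ∞) ≤ FlatMor.fibreDimAt f x)
    [LocallyOfFinitePresentation (f.fiberToSpecResidueField (f x))] :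
    f.asFiber x ∈ (f.fiberToSpecResidueField (f x)).smoothLocus := by
  let g' := f.fiberι (f x)
  let f' := f.fiberToSpecResidueField (f x)
  haveI : IsLocallyNoetherian (f.fiber (f x)) := LocallyOfFiniteType.isLocallyNoetherian f'
  have hd' := Groth.L19.OmegaSh.isUniversal_dOmega (f := f')
  obtain ⟨c, hc, -⟩ := Groth.Agent.S9370.result f f' g' (Y.fromSpecResidueField (f x))
    (pullback.condition).symm Ω d hd _ _ hd'
  haveI := Groth.Agent.S9386.result f (Y.fromSpecResidueField (f x)) g' f'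
    (IsPullback.of_hasPullback f (Y.fromSpecResidueField (f x))) Ω d hd _ _ hd' c hc
  obtain ⟨i'⟩ := Groth.L29.LocFree.restrict_pullback g' i
  exact mem_smoothLocus_of_free_field f' hd' (f.asFiber x)
    (show f.asFiber x ∈ g' ⁻¹ᵁ U by
      show g' (f.asFiber x) ∈ U
      rw [f.fiberι_asFiber]; exact hxU)
    ((Scheme.Modules.restrictFunctor (g' ⁻¹ᵁ U).ι).mapIso (asIso c).symm ≪≫ i') hdim

/-- The smoothness criterion by flatness and differentials. -/
theorem mem_smoothLocus_iff (hd : OmegaSh.IsUniversal d) [LocallyOfFinitePresentation f] (x : X) :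
    x ∈ f.smoothLocus ↔
      (f.stalkMap x).hom.Flat ∧
        ∃ (U : X.Opens) (n : ℕ), x ∈ U ∧ Nonempty (Ω.restrict U.ι ≅ FlatMod.freeMod (U : Scheme.{u}) n) ∧
          FlatMor.fibreDimAt f x = (n : WithBot ℕ∞) := by
  haveI : LocallyOfFinitePresentation (f.fiberToSpecResidueField (f x)) :=
    MorphismProperty.pullback_snd _ _ inferInstance
  refine ⟨fun hx => ⟨((Groth.Agent.S2156.result f x).mp hx).1, exists_free_of_mem_smoothLocus hd x hx⟩, ?_⟩
  rintro ⟨hflat, U, n, hxU, ⟨i⟩, hn⟩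
  exact (Groth.Agent.S2156.result f x).mpr ⟨hflat, fiber_mem_smoothLocus_of_free hd x hxU i hn.ge⟩

end Groth.L05.OmegaRank
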