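import Groth.Agent.L05.OmegaRank.Main
import Groth.Agent.L07.CIScheme
import Groth.Agent.L04.CMLoc
import Groth.Agent.S2082
import Groth.Agent.L21.Smooth.Scheme

/-!
# Flatness over a regular base from a smooth fibre of the expected dimension
-/

set_option autoImplicit false
set_option linter.style.haveILetI false
set_option backward.isDefEq.respectTransparency.types false
set_option backward.isDefEq.respectTransparency false

universe u

open CategoryTheory CategoryTheory.Limits AlgebraicGeometry TopologicalSpace IsLocalRing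

namespace Groth.L05.OmegaRank

/-- A local ring with regular closed fibre over a regular local ring, of the expected dimension, is regular. -/
theorem isRegularLocalRing_of_fibre {R S : Type u} [CommRing R] [CommRing S] [IsRegularLocalRing R]
    [IsLocalRing S] [IsNoetherianRing S] [Algebra R S] [IsLocalHom (algebraMap R S)]
    (hreg : IsRegularLocalRing (S ⧸ (maximalIdeal R).map (algebraMap R S)))
    (hdim : ringKrullDim S = ringKrullDim R +
      ringKrullDim (S ⧸ (maximalIdeal R).map (algebraMap R S))) : IsRegularLocalRing S := by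
  classical
  set J := (maximalIdeal R).map (algebraMap R S)
  obtain ⟨a, haG, hagen⟩ := Submodule.FG.exists_span_set_encard_eq_spanFinrank (maximalIdeal R).fg_of_isNoetherianRing
  obtain ⟨b, hbG, hbgen⟩ := Submodule.FG.exists_span_set_encard_eq_spanFinrank (maximalIdeal (S ⧸ J)).fg_of_isNoetherianRing
  let σ : S ⧸ J → S := Function.surjInv Ideal.Quotient.mk_surjective
  let G : Set S := algebraMap R S '' a ∪ σ '' b
  have hJ : J = Ideal.span (algebraMap R S '' a) := by
    rw [← Ideal.map_span]; exact congrArg (Ideal.map (algebraMap R S)) hagen.symm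
  have hgen : Ideal.span G = maximalIdeal S := by
    have h1 : (Ideal.span G).map (Ideal.Quotient.mk J) = maximalIdeal (S ⧸ J) := by
      rw [Ideal.span_union, Ideal.map_sup, ← hJ, Ideal.map_quotient_self, bot_sup_eq, Ideal.map_span,
        Set.image_image]
      simp only [σ, Function.surjInv_eq Ideal.Quotient.mk_surjective, Set.image_id']
      exact hbgen
    have h2 := congrArg (Ideal.comap (Ideal.Quotient.mk J)) h1
    rw [Ideal.comap_map_of_surjective _ Ideal.Quotient.mk_surjective, ← RingHom.ker_eq_comap_bot, Ideal.mk_ker,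
      sup_eq_left.mpr (hJ.le.trans (Ideal.span_mono Set.subset_union_left))] at h2
    rw [h2]
    exact eq_maximalIdeal (Ideal.comap_isMaximal_of_surjective _ Ideal.Quotient.mk_surjective)
  have hcard : (maximalIdeal S).spanFinrank ≤ (maximalIdeal R).spanFinrank + (maximalIdeal (S ⧸ J)).spanFinrank := by
    have hfin : G.Finite := ((Set.finite_of_encard_eq_coe haG).image _).union ((Set.finite_of_encard_eq_coe hbG).image _)
    rw [← hgen]
    refine (Submodule.spanFinrank_span_le_ncard_of_finite hfin).trans ((Set.ncard_union_le _ _).trans (add_le_add ?_ ?_))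
    · refine (Set.ncard_image_le (Set.finite_of_encard_eq_coe haG)).trans_eq ?_
      rw [Set.ncard_def, haG]; rfl
    · refine (Set.ncard_image_le (Set.finite_of_encard_eq_coe hbG)).trans_eq ?_
      rw [Set.ncard_def, hbG]; rfl
  refine IsRegularLocalRing.of_spanFinrank_maximalIdeal_le S ?_
  rw [hdim, ← (isRegularLocalRing_iff R).mp inferInstance, ← (isRegularLocalRing_iff (S ⧸ J)).mp hreg]
  exact_mod_cast hcard

variable {X S : Scheme.{u}} {f : X ⟶ S}

theorem flat_of_smooth_fiber [IsLocallyNoetherian S] [LocallyOfFiniteType f] (x : X)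
    [IsRegularLocalRing (S.presheaf.stalk (f x))]
    [LocallyOfFinitePresentation (f.fiberToSpecResidueField (f x))]
    (hx : f.asFiber x ∈ (f.fiberToSpecResidueField (f x)).smoothLocus)
    (hdim : ringKrullDim (X.presheaf.stalk x) =
      ringKrullDim ((f.fiber (f x)).presheaf.stalk (f.asFiber x)) + ringKrullDim (S.presheaf.stalk (f x))) :
    (f.stalkMap x).hom.Flat := by
  let f' := f.fiberToSpecResidueField (f x)
  haveI : IsLocallyNoetherian X := LocallyOfFiniteType.isLocallyNoetherian f
  haveI hs : IsRegularLocalRing ((f.fiber (f x)).presheaf.stalk (f.asFiber x)) := by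
    haveI := Groth.L20.SmoothAt.smooth_ι_smoothLocus f'
    let u : (f'.smoothLocus : Scheme.{u}) := ⟨f.asFiber x, hx⟩
    haveI := Groth.L21.Smooth.regular_stalk (f'.smoothLocus.ι ≫ f') u
    exact IsRegularLocalRing.of_ringEquiv (asIso (f'.smoothLocus.ι.stalkMap u)).commRingCatIsoToRingEquiv.symm
  obtain ⟨e⟩ := Groth.L07.CIScheme.exists_fiberStalkEquiv f (f x) (f.asFiber x) x (f.fiberι_asFiber x)
  letI := (f.stalkMap x).hom.toAlgebra
  haveI : IsLocalHom (algebraMap (S.presheaf.stalk (f x)) (X.presheaf.stalk x)) :=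
    inferInstanceAs (IsLocalHom (f.stalkMap x).hom)
  have hd : ringKrullDim (X.presheaf.stalk x) = ringKrullDim (S.presheaf.stalk (f x)) +
      ringKrullDim ((X.presheaf.stalk x) ⧸
        (maximalIdeal (S.presheaf.stalk (f x))).map (algebraMap (S.presheaf.stalk (f x)) (X.presheaf.stalk x))) := by
    rw [hdim, add_comm]
    exact congrArg _ (ringKrullDim_eq_of_ringEquiv e).symm
  haveI : IsRegularLocalRing (X.presheaf.stalk x) :=
    isRegularLocalRing_of_fibre (IsRegularLocalRing.of_ringEquiv e.symm) hd
  haveI := Groth.L04.isCohenMacaulayLocalRing_of_regular (X.presheaf.stalk x)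
  exact RingHom.flat_algebraMap_iff.mpr (Groth.Agent.S2082.result hd)

theorem mem_smoothLocus_iff_regular_base [IsLocallyNoetherian S] [LocallyOfFinitePresentation f]
    (hreg : ∀ s : S, IsRegularLocalRing (S.presheaf.stalk s))
    {Ω : X.Modules} {d : OmegaSh.Der f Ω} (hd : OmegaSh.IsUniversal d) (x : X)
    (hdim : ringKrullDim (X.presheaf.stalk x) =
      ringKrullDim ((f.fiber (f x)).presheaf.stalk (f.asFiber x)) + ringKrullDim (S.presheaf.stalk (f x))) :
    x ∈ f.smoothLocus ↔
      ∃ (U : X.Opens) (n : ℕ), x ∈ U ∧ Nonempty (Ω.restrict U.ι ≅ FlatMod.freeMod (U : Scheme.{u}) n) ∧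
        FlatMor.fibreDimAt f x = (n : WithBot ℕ∞) := by
  haveI : LocallyOfFinitePresentation (f.fiberToSpecResidueField (f x)) :=
    MorphismProperty.pullback_snd _ _ inferInstance
  haveI := hreg (f x)
  refine ⟨exists_free_of_mem_smoothLocus hd x, ?_⟩
  rintro ⟨U, n, hxU, ⟨i⟩, hn⟩
  have hfib := fiber_mem_smoothLocus_of_free hd x hxU i hn.ge
  exact (Groth.Agent.S2156.result f x).mpr ⟨flat_of_smooth_fiber x hfib hdim, hfib⟩

end Groth.L05.OmegaRank
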